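import Mathlib

/-!
# The topology generated by a class of morphisms, affine-locally
-/

set_option autoImplicit false
set_option backward.isDefEq.respectTransparency false
set_option linter.style.haveILetI false

universe u

open CategoryTheory CategoryTheory.Limits AlgebraicGeometry TopologicalSpace

namespace Groth.Agent.ClassTopLib

/-- Affine-local covering data in the class `C` for a sieve on an `S`-scheme. -/
def Covers {S : Scheme.{u}} (C : MorphismProperty Scheme.{u}) (X : Over S) (R : Sieve X) : Prop :=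
  ∃ (ι : Type u) (U : ι → X.left.Opens), (∀ i, IsAffineOpen (U i)) ∧ ⨆ i, U i = ⊤ ∧
    ∀ i, ∃ (κ : Type u) (_ : Finite κ) (V : κ → Over S) (φ : ∀ j, V j ⟶ X)
      (ψ : ∀ j, (V j).left ⟶ (U i : Scheme.{u})),
      (∀ j, IsAffine (V j).left) ∧ (∀ j, R.arrows (φ j)) ∧ (∀ j, ψ j ≫ (U i).ι = (φ j).left) ∧
        C (Limits.Sigma.desc ψ)

variable (C : MorphismProperty Scheme.{u}) [C.IsStableUnderComposition] [C.IsStableUnderBaseChange]

omit [C.IsStableUnderComposition] [C.IsStableUnderBaseChange] in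
theorem isIso_desc_id (U : Scheme.{u}) :
    IsIso (Sigma.desc fun _ : PUnit.{u + 1} => 𝟙 U) :=
  ⟨⟨Sigma.ι (fun _ : PUnit.{u + 1} => U) PUnit.unit,
    Sigma.hom_ext _ _ fun j => by cases j; simp, by simp⟩⟩

omit [C.IsStableUnderComposition] in
/-- Base change of a finite family in `C`. -/
theorem pullback_desc {κ : Type u} [Finite κ] {A : κ → Scheme.{u}} {U W : Scheme.{u}}
    (f : ∀ j, A j ⟶ U) (g : W ⟶ U) (hf : C (Sigma.desc f)) :
    C (Sigma.desc fun j => pullback.snd (f j) g) := by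
  have h := FinitaryPreExtensive.isPullback_sigmaDesc f (fun _ : PUnit.{u + 1} => g)
  have h1 := MorphismProperty.of_isPullback h (P := C) hf
  haveI := isIso_desc_id W
  have h2 := (C.cancel_right_of_respectsIso _ (Sigma.desc fun _ : PUnit.{u + 1} => 𝟙 W)).2 h1
  let e : (∐ fun j => pullback (f j) g) ≅ ∐ fun p : κ × PUnit.{u + 1} => pullback (f p.1) g :=
    Sigma.whiskerEquiv (f := fun j => pullback (f j) g)
      (g := fun p : κ × PUnit.{u + 1} => pullback (f p.1) g) (Equiv.prodPUnit κ).symm (fun j => Iso.refl (pullback (f j) g))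
  have h3 := (C.cancel_left_of_respectsIso e.hom _).2 h2
  convert h3 using 1
  refine Sigma.hom_ext _ _ fun j => ?_
  simp [e, Equiv.prodPUnit]

/-- Refining a finite family in `C` by finite families in `C`. -/
theorem flatten_desc (hcoprod : ∀ (κ : Type u) [Finite κ] (A B : κ → Scheme.{u}) (f : ∀ j, A j ⟶ B j),
      (∀ j, C (f j)) → C (Limits.Sigma.map f))
    {κ : Type u} [Finite κ] {A : κ → Scheme.{u}} {U : Scheme.{u}} (f : ∀ j, A j ⟶ U)
    (hf : C (Sigma.desc f)) (L : κ → Type u) [∀ j, Finite (L j)] (B : ∀ j, L j → Scheme.{u})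
    (g : ∀ j l, B j l ⟶ A j) (hg : ∀ j, C (Sigma.desc (g j))) :
    C (Sigma.desc fun p : Σ j, L j => g p.1 p.2 ≫ f p.1) := by
  have h1 := C.comp_mem _ _ (hcoprod κ _ _ (fun j => Sigma.desc (g j)) hg) hf
  have h2 := (C.cancel_left_of_respectsIso (sigmaSigmaIso L B).inv _).2 h1
  convert h2 using 1
  refine Sigma.hom_ext _ _ fun p => ?_
  simp [sigmaSigmaIso]

variable {S : Scheme.{u}}

section

variable (haff : ∀ (U : Scheme.{u}) [IsAffine U] (κ : Type u) [Finite κ] (V : κ → U.Opens),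
      (∀ j, IsAffineOpen (V j)) → ⨆ j, V j = ⊤ → C (Limits.Sigma.desc fun j => (V j).ι))

omit [C.IsStableUnderComposition] in
include haff in
theorem id_mem (U : Scheme.{u}) [IsAffine U] : C (𝟙 U) := by
  have h := haff U PUnit.{u + 1} (fun _ => ⊤) (fun _ => isAffineOpen_top U) (by simp)
  haveI : IsIso (Sigma.desc fun _ : PUnit.{u + 1} => (⊤ : U.Opens).ι) :=
    ⟨⟨U.topIso.inv ≫ Sigma.ι (fun _ : PUnit.{u + 1} => ((⊤ : U.Opens) : Scheme.{u})) PUnit.unit,
      Sigma.hom_ext _ _ fun j => by cases j; simp, by simp⟩⟩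
  rw [← Category.comp_id (Sigma.desc fun _ : PUnit.{u + 1} => (⊤ : U.Opens).ι),
    C.cancel_left_of_respectsIso] at h
  exact h

omit [C.IsStableUnderComposition] in
include haff in
theorem covers_top (X : Over S) : Covers C X ⊤ := by
  refine ⟨X.left.affineOpens, fun U => U.1, fun U => U.2, iSup_affineOpens_eq_top X.left, fun U => ?_⟩
  refine ⟨PUnit.{u + 1}, inferInstance, fun _ => Over.mk (U.1.ι ≫ X.hom),
    fun _ => Over.homMk U.1.ι, fun _ => 𝟙 _, fun _ => U.2, fun _ => trivial,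
    fun _ => Category.id_comp _, ?_⟩
  haveI : IsAffine U.1.toScheme := U.2
  haveI := isIso_desc_id U.1.toScheme
  have h := (C.cancel_left_of_respectsIso (Sigma.desc fun _ : PUnit.{u + 1} => 𝟙 U.1.toScheme) _).2
    (id_mem C haff U.1.toScheme)
  rwa [Category.comp_id] at h

omit [C.IsStableUnderComposition] in
theorem covers_pullback {X Y : Over S} (g : Y ⟶ X) {R : Sieve X} (hR : Covers C X R) :
    Covers C Y (R.pullback g) := by
  obtain ⟨ι, U, hU, hUtop, hdata⟩ := hR
  let ι' : Type u := Σ i, {W : Y.left.affineOpens // W.1 ≤ g.left ⁻¹ᵁ U i}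
  refine ⟨ι', fun p => p.2.1.1, fun p => p.2.1.2, ?_, fun p => ?_⟩
  · refine eq_top_iff.2 fun y _ => ?_
    obtain ⟨i, hi⟩ := Opens.mem_iSup.1 (hUtop ▸ (trivial : g.left y ∈ (⊤ : X.left.Opens)) :
      g.left y ∈ ⨆ i, U i)
    obtain ⟨_, ⟨W, hW, rfl⟩, hyW, hle⟩ := Y.left.isBasis_affineOpens.exists_subset_of_mem_open
      (show y ∈ ((g.left ⁻¹ᵁ U i : Y.left.Opens) : Set Y.left) from hi) (g.left ⁻¹ᵁ U i).isOpen
    exact Opens.mem_iSup.2 ⟨⟨i, ⟨W, hW⟩, hle⟩, hyW⟩
  · obtain ⟨i, W, hW⟩ := p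
    obtain ⟨κ, _, V, φ, ψ, hV, hR, hψ, hC⟩ := hdata i
    let gW : W.1.toScheme ⟶ (U i).toScheme := g.left.resLE (U i) W.1 hW
    haveI : IsAffine W.1.toScheme := W.2
    haveI : IsAffine (U i).toScheme := hU i
    haveI := hV
    refine ⟨κ, inferInstance,
      fun j => Over.mk (pullback.snd (ψ j) gW ≫ W.1.ι ≫ Y.hom),
      fun j => Over.homMk (pullback.snd (ψ j) gW ≫ W.1.ι) (Category.assoc _ _ _),
      fun j => pullback.snd (ψ j) gW, fun j => ?_, fun j => ?_, fun j => rfl,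
      pullback_desc C ψ gW hC⟩
    · exact inferInstanceAs (IsAffine (pullback (ψ j) gW))
    · have key : (pullback.snd (ψ j) gW ≫ W.1.ι) ≫ g.left = pullback.fst (ψ j) gW ≫ (φ j).left := by
        rw [← hψ j, pullback.condition_assoc, Category.assoc, Scheme.Hom.resLE_comp_ι]
      let r : Over.mk (pullback.snd (ψ j) gW ≫ W.1.ι ≫ Y.hom) ⟶ V j :=
        Over.homMk (pullback.fst (ψ j) gW) (by
          show pullback.fst (ψ j) gW ≫ (V j).hom = pullback.snd (ψ j) gW ≫ W.1.ι ≫ Y.hom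
          rw [← Over.w (φ j), ← Over.w g, ← Category.assoc, ← key, Category.assoc, Category.assoc])
      show R.arrows (_ ≫ g)
      have e : Over.homMk (pullback.snd (ψ j) gW ≫ W.1.ι) (Category.assoc _ _ _) ≫ g = r ≫ φ j :=
        Over.OverMorphism.ext key
      rw [e]
      exact R.downward_closed (hR j) r

include haff in
theorem covers_trans
    (hcoprod : ∀ (κ : Type u) [Finite κ] (A B : κ → Scheme.{u}) (f : ∀ j, A j ⟶ B j),
      (∀ j, C (f j)) → C (Limits.Sigma.map f))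
    {X : Over S} {R : Sieve X} (hR : Covers C X R) (R' : Sieve X)
    (h : ∀ ⦃Y : Over S⦄ ⦃f : Y ⟶ X⦄, R.arrows f → Covers C Y (R'.pullback f)) : Covers C X R' := by
  classical
  obtain ⟨ι, U, hU, hUtop, hdata⟩ := hR
  refine ⟨ι, U, hU, hUtop, fun i => ?_⟩
  obtain ⟨κ, _, V, φ, ψ, hV, hRφ, hψ, hC⟩ := hdata i
  haveI := hV
  have step : ∀ j, ∃ (L : Type u) (_ : Finite L) (B : L → Over S) (g : ∀ l, B l ⟶ V j),
      (∀ l, IsAffine (B l).left) ∧ (∀ l, R'.arrows (g l ≫ φ j)) ∧
        C (Sigma.desc fun l => (g l).left) := by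
    intro j
    obtain ⟨ι', W, hW, hWtop, hdata'⟩ := h (hRφ j)
    obtain ⟨t, ht⟩ := isCompact_univ.elim_finite_subcover (fun w => (W w : Set (V j).left))
      (fun w => (W w).isOpen) fun x _ => by
        have : x ∈ ⨆ w, W w := by rw [hWtop]; trivial
        simpa using Opens.mem_iSup.1 this
    have ht' : ⨆ w : t, W w.1 = ⊤ := eq_top_iff.2 fun x _ => by
      obtain ⟨w, hw, hx⟩ := Set.mem_iUnion₂.1 (ht (Set.mem_univ x))
      exact Opens.mem_iSup.2 ⟨⟨w, hw⟩, hx⟩
    choose μ hμ B φ' ψ' hB hR' hψ' hC' using fun w : t => hdata' w.1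
    haveI := hμ
    have hflat := flatten_desc C hcoprod (fun w : t => (W w.1).ι)
      (haff (V j).left t (fun w => W w.1) (fun w => hW w.1) ht') μ
      (fun w m => (B w m).left) ψ' hC'
    refine ⟨Σ w : t, μ w, inferInstance, fun p => B p.1 p.2, fun p => φ' p.1 p.2,
      fun p => hB p.1 p.2, fun p => hR' p.1 p.2, ?_⟩
    convert hflat using 3 with p
    exact (hψ' p.1 p.2).symm
  choose L hL B g hB hR' hC' using step
  haveI := hL
  refine ⟨Σ j, L j, inferInstance, fun p => B p.1 p.2, fun p => g p.1 p.2 ≫ φ p.1,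
    fun p => (g p.1 p.2).left ≫ ψ p.1, fun p => hB p.1 p.2, fun p => hR' p.1 p.2,
    fun p => by rw [Category.assoc, hψ, Over.comp_left],
    flatten_desc C hcoprod ψ hC L (fun j l => (B j l).left) (fun j l => (g j l).left) hC'⟩

end

end Groth.Agent.ClassTopLib
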