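import Groth.Agent.ClassTopLib.Basic

/-!
# Sheaves for the topology generated by a class
-/

set_option autoImplicit false
set_option backward.isDefEq.respectTransparency false
set_option linter.style.haveILetI false

universe u v

open CategoryTheory CategoryTheory.Limits AlgebraicGeometry TopologicalSpace

namespace Groth.Agent.ClassTopLib

variable {S : Scheme.{u}}

/-- A sieve containing an open cover is a big Zariski covering over `S`. -/
theorem mem_zariski_over {Y : Over S} (𝒲 : Scheme.OpenCover.{u} Y.left) (T : Sieve Y)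
    (hT : ∀ k, T.arrows (Over.homMk (𝒲.f k) : Over.mk (𝒲.f k ≫ Y.hom) ⟶ Y)) :
    T ∈ (Scheme.zariskiTopology.over S) Y := by
  rw [GrothendieckTopology.mem_over_iff]
  refine Scheme.mem_grothendieckTopology_iff.2 ⟨𝒲, ?_⟩
  rintro _ _ ⟨k⟩
  exact (Sieve.overEquiv_iff T _).2 (hT k)

variable (C : MorphismProperty Scheme.{u})
  (haff : ∀ (U : Scheme.{u}) [IsAffine U] (κ : Type u) [Finite κ] (V : κ → U.Opens),
      (∀ j, IsAffineOpen (V j)) → ⨆ j, V j = ⊤ → C (Limits.Sigma.desc fun j => (V j).ι))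

include haff in
theorem covers_of_zariski [C.IsStableUnderBaseChange] {X : Over S} {T : Sieve X}
    (hT : T ∈ (Scheme.zariskiTopology.over S) X) : Covers C X T := by
  rw [GrothendieckTopology.mem_over_iff] at hT
  obtain ⟨𝒲, hle⟩ := Scheme.mem_grothendieckTopology_iff.1 hT
  let ι : Type u := Σ k, {W : X.left.affineOpens // W.1 ≤ (𝒲.f k).opensRange}
  refine ⟨ι, fun p => p.2.1.1, fun p => p.2.1.2, eq_top_iff.2 fun x _ => ?_, fun p => ?_⟩
  · obtain ⟨_, ⟨W, hW, rfl⟩, hxW, hle'⟩ := X.left.isBasis_affineOpens.exists_subset_of_mem_open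
      (𝒲.covers x) (𝒲.f (𝒲.idx x)).opensRange.isOpen
    exact Opens.mem_iSup.2 ⟨⟨𝒲.idx x, ⟨W, hW⟩, hle'⟩, hxW⟩
  · obtain ⟨k, W, hW⟩ := p
    let l : W.1.toScheme ⟶ 𝒲.X k := IsOpenImmersion.lift (𝒲.f k) W.1.ι (by
      rw [Scheme.Opens.range_ι]; exact hW)
    have hl : l ≫ 𝒲.f k = W.1.ι := IsOpenImmersion.lift_fac _ _ _
    refine ⟨PUnit.{u + 1}, inferInstance, fun _ => Over.mk (W.1.ι ≫ X.hom),
      fun _ => Over.homMk W.1.ι, fun _ => 𝟙 _, fun _ => W.2, fun _ => ?_,
      fun _ => Category.id_comp _, ?_⟩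
    · let l' : Over.mk (W.1.ι ≫ X.hom) ⟶ Over.mk (𝒲.f k ≫ X.hom) :=
        Over.homMk l (by show l ≫ 𝒲.f k ≫ X.hom = W.1.ι ≫ X.hom; rw [← Category.assoc, hl])
      have e : (Over.homMk W.1.ι : Over.mk (W.1.ι ≫ X.hom) ⟶ X) = l' ≫ Over.homMk (𝒲.f k) :=
        Over.OverMorphism.ext hl.symm
      show T.arrows (Over.homMk W.1.ι : Over.mk (W.1.ι ≫ X.hom) ⟶ X)
      rw [e]
      exact T.downward_closed ((Sieve.overEquiv_iff T _).1 (hle _ _ ⟨k⟩)) l'
    · haveI : IsAffine W.1.toScheme := W.2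
      haveI := isIso_desc_id W.1.toScheme
      have h := (C.cancel_left_of_respectsIso (Sigma.desc fun _ : PUnit.{u + 1} => 𝟙 W.1.toScheme) _).2
        (id_mem C haff W.1.toScheme)
      rwa [Category.comp_id] at h

theorem covers_singleton [C.IsStableUnderBaseChange]
    (hqc : ∀ {A B : Scheme.{u}} (f : A ⟶ B), C f → QuasiCompact f)
    (hres : ∀ (W X' : Scheme.{u}) [IsAffine W] (f : X' ⟶ W), C f →
      ∀ (κ : Type u) [Finite κ] (A : κ → X'.Opens), (∀ l, IsAffineOpen (A l)) → ⨆ l, A l = ⊤ →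
        C (Limits.Sigma.desc fun l => (A l).ι ≫ f))
    {X X' : Over S} (f : X' ⟶ X) (hf : C f.left) : Covers C X (Sieve.generate (Presieve.singleton f)) := by
  classical
  refine ⟨X.left.affineOpens, fun U => U.1, fun U => U.2, iSup_affineOpens_eq_top X.left, fun U => ?_⟩
  haveI : IsAffine U.1.toScheme := U.2
  have hC : C (f.left ∣_ U.1) :=
    MorphismProperty.of_isPullback (isPullback_morphismRestrict f.left U.1).flip hf
  haveI := hqc _ hC
  haveI : CompactSpace (f.left ⁻¹ᵁ U.1).toScheme :=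
    QuasiCompact.compactSpace_of_compactSpace (f.left ∣_ U.1)
  let P := (f.left ⁻¹ᵁ U.1).toScheme
  obtain ⟨t, ht⟩ := isCompact_univ.elim_finite_subcover (fun A : P.affineOpens => (A.1 : Set P))
    (fun A => A.1.isOpen) fun x _ => by
      have : x ∈ ⨆ A : P.affineOpens, A.1 := by rw [iSup_affineOpens_eq_top]; trivial
      simpa using Opens.mem_iSup.1 this
  have ht' : ⨆ A : t, A.1.1 = (⊤ : P.Opens) := eq_top_iff.2 fun x _ => by
    obtain ⟨A, hA, hx⟩ := Set.mem_iUnion₂.1 (ht (Set.mem_univ x))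
    exact Opens.mem_iSup.2 ⟨⟨A, hA⟩, hx⟩
  refine ⟨t, inferInstance,
    fun A => Over.mk ((A.1.1.ι ≫ (f.left ⁻¹ᵁ U.1).ι) ≫ X'.hom),
    fun A => (Over.homMk (A.1.1.ι ≫ (f.left ⁻¹ᵁ U.1).ι) : Over.mk _ ⟶ X') ≫ f,
    fun A => A.1.1.ι ≫ f.left ∣_ U.1, fun A => A.1.2,
    fun A => ⟨X', _, f, Presieve.singleton.mk, rfl⟩, fun A => ?_,
    hres _ P (f.left ∣_ U.1) hC t (fun A => A.1.1) (fun A => A.1.2) ht'⟩
  rw [Category.assoc, morphismRestrict_ι, ← Category.assoc]
  rfl

theorem mem_finest_singleton [C.IsStableUnderBaseChange] {F : (Over S)ᵒᵖ ⥤ Type v}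
    (hF : ∀ (X X' : Over S) (f : X' ⟶ X), C f.left → Presieve.IsSheafFor F (Presieve.singleton f))
    {X X' : Over S} (d : X' ⟶ X) (hd : C d.left) :
    Sieve.generate (Presieve.singleton d) ∈ Sheaf.finestTopologySingle F X := by
  intro Y g
  rw [← Sieve.pullbackArrows_comm, Presieve.pullback_singleton, ← Presieve.isSheafFor_iff_generate]
  exact hF _ _ _ (MorphismProperty.of_isPullback
    ((IsPullback.of_hasPullback d g).map (Over.forget S)) hd)

/-- The criterion. -/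
theorem isSheaf_iff [C.IsStableUnderBaseChange]
    (hqc : ∀ {A B : Scheme.{u}} (f : A ⟶ B), C f → QuasiCompact f)
    (hres : ∀ (W X' : Scheme.{u}) [IsAffine W] (f : X' ⟶ W), C f →
      ∀ (κ : Type u) [Finite κ] (A : κ → X'.Opens), (∀ l, IsAffineOpen (A l)) → ⨆ l, A l = ⊤ →
        C (Limits.Sigma.desc fun l => (A l).ι ≫ f))
    (haff : ∀ (U : Scheme.{u}) [IsAffine U] (κ : Type u) [Finite κ] (V : κ → U.Opens),
      (∀ j, IsAffineOpen (V j)) → ⨆ j, V j = ⊤ → C (Limits.Sigma.desc fun j => (V j).ι))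
    (J : GrothendieckTopology (Over S)) (hJ : ∀ (X : Over S) (R : Sieve X), R ∈ J X ↔ Covers C X R)
    (F : (Over S)ᵒᵖ ⥤ Type v) :
    Presieve.IsSheaf J F ↔
      (Presieve.IsSheaf (Scheme.zariskiTopology.over S) F ∧
        ∀ (X X' : Over S) (f : X' ⟶ X), C f.left → Presieve.IsSheafFor F (Presieve.singleton f)) := by
  constructor
  · intro h
    refine ⟨fun X T hT => h T ((hJ X T).2 (covers_of_zariski C haff hT)), fun X X' f hf => ?_⟩
    rw [Presieve.isSheafFor_iff_generate]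
    exact h _ ((hJ X _).2 (covers_singleton C hqc hres f hf))
  · rintro ⟨hZ, hS⟩
    let K := Sheaf.finestTopologySingle F
    have hZK : ∀ {Y : Over S} {T : Sieve Y}, T ∈ (Scheme.zariskiTopology.over S) Y → T ∈ K Y :=
      fun hT Z g => hZ _ ((Scheme.zariskiTopology.over S).pullback_stable g hT)
    intro X R hR
    obtain ⟨ι, U, hU, hUtop, hdata⟩ := (hJ X R).1 hR
    let UX : ι → Over S := fun i => Over.mk ((U i).ι ≫ X.hom)
    let u : ∀ i, UX i ⟶ X := fun i => Over.homMk (U i).ι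
    have hT : Sieve.ofArrows UX u ∈ K X :=
      hZK (mem_zariski_over (X.left.openCoverOfIsOpenCover U hUtop) _ fun i =>
        Sieve.ofArrows_mk UX u i)
    have hR' : R ∈ K X := by
      refine K.transitive hT R fun Y f hf => ?_
      obtain ⟨_, a, _, ⟨i⟩, rfl⟩ := hf
      rw [Sieve.pullback_comp]
      refine K.pullback_stable a ?_
      obtain ⟨κ, _, V, φ, ψ, -, hRφ, hψ, hC⟩ := hdata i
      let D : Over S := Over.mk (Sigma.desc ψ ≫ (U i).ι ≫ X.hom)
      let d : D ⟶ UX i := Over.homMk (Sigma.desc ψ)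
      refine K.transitive (mem_finest_singleton C hS d hC) _ fun Z g hg => ?_
      obtain ⟨_, b, _, ⟨⟩, rfl⟩ := hg
      rw [Sieve.pullback_comp]
      refine K.pullback_stable b (hZK (mem_zariski_over (sigmaOpenCover fun j => (V j).left) _ fun j => ?_))
      show R.arrows ((Over.homMk (Sigma.ι (fun j => (V j).left) j) :
        Over.mk (Sigma.ι (fun j => (V j).left) j ≫ D.hom) ⟶ D) ≫ d ≫ u i)
      let r : Over.mk (Sigma.ι (fun j => (V j).left) j ≫ D.hom) ⟶ V j :=
        Over.homMk (𝟙 _) (by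
          show 𝟙 _ ≫ (V j).hom = Sigma.ι (fun j => (V j).left) j ≫ Sigma.desc ψ ≫ (U i).ι ≫ X.hom
          rw [Category.id_comp, ← Category.assoc, Sigma.ι_desc, ← Category.assoc, hψ]
          exact (Over.w (φ j)).symm)
      have e : (Over.homMk (Sigma.ι (fun j => (V j).left) j) :
          Over.mk (Sigma.ι (fun j => (V j).left) j ≫ D.hom) ⟶ D) ≫ d ≫ u i = r ≫ φ j :=
        Over.OverMorphism.ext (by
          show Sigma.ι (fun j => (V j).left) j ≫ Sigma.desc ψ ≫ (U i).ι = 𝟙 _ ≫ (φ j).left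
          rw [← Category.assoc, Sigma.ι_desc, hψ, Category.id_comp])
      rw [e]
      exact R.downward_closed (hRφ j) r
    simpa using hR' X (𝟙 X)

end Groth.Agent.ClassTopLib
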